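import Cfsg.Agent.H700.FpfPsu.PsuCent
import Cfsg.Agent.H80.Fpf.Mult
import Cfsg.Agent.LieClassical.HermPerfect
import Cfsg.Agent.S0279
import Cfsg.Agent.S2089
import Cfsg.Agent.S2334
import Cfsg.Agent.S2335

/-!
# The smaller of two primes `r` with `-q` of odd order `j` modulo `r`, `j ∈ {n - 1, n}`
-/

set_option autoImplicit false
set_option linter.unusedSectionVars false

namespace Cfsg.Agent.H700.FpfPsu

open Cfsg Cfsg.Agent.LieClassical Cfsg.Agent.LieClassical.HermBasic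
open Cfsg.Agent.ClassicalGeometry.PSUAutBasic (pr pr_surjective)
open Cfsg.Agent.H80.Fpf

variable {F : Type} [Field F] [Fintype F] {q n : ℕ}

theorem isCover_pr (hF : Fintype.card F = q ^ 2) (hn : 3 ≤ n) (h3 : ¬ (n = 3 ∧ q = 2)) : IsCover (pr n F q) where
  surj := pr_surjective
  central := le_of_eq (QuotientGroup.ker_mk' _)
  perf := HermPerfect.commutator_SU_eq_top hF hn h3

theorem multDvd (hF : Fintype.card F = q ^ 2) (hn : 3 ≤ n) (h3 : ¬ (n = 3 ∧ q = 2))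
    (hexc : (n, q) ∉ ({(4, 2), (4, 3), (6, 2)} : Set (ℕ × ℕ))) : MultDvd (PSU n F q) (Nat.gcd n (q + 1)) :=
  multDvd_of_cyclic (Nat.gcd_pos_of_pos_left _ (by omega)).ne' (Cfsg.Agent.S2089.result n q hF hn h3 hexc)

theorem minDeg (hF : Fintype.card F = q ^ 2) (hn : 3 ≤ n) (h3 : ¬ (n = 3 ∧ q = 2))
    (hexc : (n, q) ∉ ({(4, 2), (4, 3), (6, 2)} : Set (ℕ × ℕ))) {B : ℕ}
    (hB : ∀ (d : ℕ) (ρ : Representation ℂ (SU n F q) (Fin d → ℂ)), ρ.IsIrreducible → 2 ≤ d → B ≤ d) :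
    MinDeg (PSU n F q) B := by
  have hker : (pr n F q).ker = Subgroup.center (SU n F q) := QuotientGroup.ker_mk' _
  exact minDeg_of_universal (Nat.gcd_pos_of_pos_left _ (by omega)).ne' (multDvd hF hn h3 hexc)
    (isCover_pr hF hn h3) (by rw [hker, Cfsg.Agent.S0279.result hF n hn]) hB

/-- The arithmetic: two primes. -/
theorem sq_le_of_two {r s X : ℕ} (hr : r.Prime) (hr2 : r ≠ 2) (hs : s.Prime) (hs2 : s ≠ 2) (hrs : r < s) (hX0 : 0 < X)
    (h1 : r ∣ X) (h2 : s ∣ X) : (r - 1) ^ 2 + 2 ≤ X := by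
  have h3 : r * s ∣ X := Nat.Coprime.mul_dvd_of_dvd_of_dvd ((Nat.coprime_primes hr hs).2 hrs.ne) h1 h2
  have h4 := Nat.le_of_dvd hX0 h3
  have h5 := hr.eq_two_or_odd.resolve_left hr2
  have h6 := hs.eq_two_or_odd.resolve_left hs2
  have h7 := hr.two_le
  obtain ⟨a, rfl⟩ : ∃ a, r = a + 1 := ⟨r - 1, by omega⟩
  rw [Nat.add_sub_cancel]
  nlinarith

theorem exists_X {j : ℕ} (hj : Odd j) : ∃ X, q ^ j + 1 = (q + 1) * X ∧ 0 < X := by
  have hd : q + 1 ∣ q ^ j + 1 := by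
    have := Odd.nat_add_dvd_pow_add_pow q 1 hj
    rwa [one_pow] at this
  obtain ⟨X, hX⟩ := hd
  refine ⟨X, hX, Nat.pos_of_ne_zero ?_⟩
  rintro rfl
  simp at hX

theorem dvd_X {j X r : ℕ} (hX : q ^ j + 1 = (q + 1) * X) (hr : r.Prime) (h : r ∣ q ^ j + 1) (hrq : ¬ r ∣ q + 1) :
    r ∣ X := by
  rw [hX] at h
  exact ((Nat.Prime.dvd_mul hr).1 h).resolve_left hrq

/-- **Two primes of order `j`.** -/
theorem not_may_small (hF : Fintype.card F = q ^ 2) (hn : 3 ≤ n) (h3 : ¬ (n = 3 ∧ q = 2))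
    (hexc : (n, q) ∉ ({(4, 2), (4, 3), (6, 2)} : Set (ℕ × ℕ))) {j r s : ℕ} (hr : r.Prime) (hs : s.Prime)
    (hrs : r < s) (hj : Odd j) (hj3 : 3 ≤ j) (hjn : n = j ∨ n = j + 1) (h1 : orderOf (-(q : ZMod r)) = j)
    (h2 : orderOf (-(q : ZMod s)) = j) : ¬ May r (PSU n F q) := by
  classical
  intro hM
  have hq2 := two_le hF
  obtain ⟨hr1, hrq, hrq1⟩ := mo_ord hr h1 hj hj3
  obtain ⟨hs1, hsq, hsq1⟩ := mo_ord hs h2 hj hj3
  have hodd : ∀ {u : ℕ}, orderOf (-(q : ZMod u)) = j → u ≠ 2 := by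
    rintro _ hu rfl
    have h5 : (-(q : ZMod 2)) = q := by
      rw [neg_eq_iff_add_eq_zero, ← two_mul]
      have : (2 : ZMod 2) = 0 := rfl
      rw [this, zero_mul]
    rcases Nat.even_or_odd q with hq | hq
    · have h6 : (q : ZMod 2) = 0 := (ZMod.natCast_eq_zero_iff _ _).2 hq.two_dvd
      rw [h6, neg_zero] at hu
      have h7 := pow_orderOf_eq_one (0 : ZMod 2)
      rw [hu, zero_pow (by omega)] at h7
      exact zero_ne_one h7
    · have h6 : (q : ZMod 2) = 1 := by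
        obtain ⟨k, rfl⟩ := hq
        push_cast
        have : (2 : ZMod 2) = 0 := rfl
        rw [this, zero_mul, zero_add]
      rw [h5, h6, orderOf_one] at hu
      omega
  obtain ⟨X, hX, hX0⟩ := exists_X (q := q) hj
  have hsq := sq_le_of_two hr (hodd h1) hs (hodd h2) hrs hX0 (dvd_X hX hr hr1 hrq1) (dvd_X hX hs hs1 hsq1)
  set a := (r - 1) ^ 2 with ha
  rcases hjn with rfl | rfl
  · -- `n = j`
    obtain ⟨x, hx, hC⟩ := cent_n hn hF hr h1 hj
    have hB : MinDeg (PSU n F q) (X - 1) := by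
      refine minDeg hF hn h3 hexc fun d ρ hρ hd => ?_
      have h5 := Cfsg.Agent.S2334.result n q hn hj hF (by
        intro h; rw [Prod.mk.injEq] at h; exact h3 h) d ρ hρ hd
      have h6 : (q ^ n - q) / (q + 1) = X - 1 := by
        have h7 : q ^ n - q = (q + 1) * (X - 1) := by
          rw [Nat.mul_sub, ← hX]; omega
        rw [h7, Nat.mul_div_cancel_left _ (by omega)]
      rwa [h6] at h5
    have h5 := hM.lt_of_minDeg' hr (hodd h1) hB hx
    rw [← ha] at h5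
    have h6 : Nat.card (Subgroup.centralizer ({x} : Set (PSU n F q))) ≤ X := by
      rw [hX, mul_comm] at hC
      exact Nat.le_of_mul_le_mul_left hC (by omega)
    have h7 : (X - 1) ^ 2 < a * X := lt_of_lt_of_le h5 (Nat.mul_le_mul_left _ h6)
    obtain ⟨Y, rfl⟩ : ∃ Y, X = Y + 1 := ⟨X - 1, by omega⟩
    rw [Nat.add_sub_cancel] at h7
    have h8 : a * (Y + 1) ≤ (Y - 1) * (Y + 1) := Nat.mul_le_mul_right _ (by omega)
    obtain ⟨Z, rfl⟩ : ∃ Z, Y = Z + 1 := ⟨Y - 1, by omega⟩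
    rw [Nat.add_sub_cancel] at h8
    nlinarith
  · -- `n = j + 1`
    obtain ⟨x, hx, hC⟩ := cent_n1 hj3 hF hr h1 hj
    have hqX : 1 ≤ q * X := Nat.mul_pos (by omega) hX0
    have hB : MinDeg (PSU (j + 1) F q) (q * X - 1) := by
      refine minDeg hF hn h3 hexc fun d ρ hρ hd => ?_
      have h5 := Cfsg.Agent.S2335.result (j + 1) q (by omega) hj.add_one hF ⟨by
        rintro h; apply hexc; rw [h]; simp, by
        rintro h; apply hexc; rw [h]; simp⟩ d ρ hρ hd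
      have h6 : (q ^ (j + 1) - 1) / (q + 1) = q * X - 1 := by
        have h7 : q ^ (j + 1) - 1 = (q + 1) * (q * X - 1) := by
          rw [Nat.mul_sub]
          have h8 : (q + 1) * (q * X) = q ^ (j + 1) + q := by
            calc (q + 1) * (q * X) = q * ((q + 1) * X) := by ring
              _ = q * (q ^ j + 1) := by rw [← hX]
              _ = _ := by ring
          rw [h8]
          omega
        rw [h7, Nat.mul_div_cancel_left _ (by omega)]
      rwa [h6] at h5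
    have h5 := hM.lt_of_minDeg' hr (hodd h1) hB hx
    rw [← ha] at h5
    rw [hX] at hC
    have h7 : (q * X - 1) ^ 2 < a * ((q + 1) * X) := lt_of_lt_of_le h5 (Nat.mul_le_mul_left _ hC)
    obtain ⟨Y, rfl⟩ : ∃ Y, X = Y + 2 := ⟨X - 2, by omega⟩
    have h8 : a * ((q + 1) * (Y + 2)) ≤ Y * ((q + 1) * (Y + 2)) := Nat.mul_le_mul_right _ (by omega)
    obtain ⟨W, hW⟩ : ∃ W, q * (Y + 2) = W + 1 := ⟨q * (Y + 2) - 1, by omega⟩
    rw [hW, Nat.add_sub_cancel] at h7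
    have h9 : W ^ 2 < Y * ((q + 1) * (Y + 2)) := lt_of_lt_of_le h7 h8
    obtain ⟨p, rfl⟩ : ∃ p, q = p + 2 := ⟨q - 2, by omega⟩
    have h10 : W = (p + 2) * (Y + 2) - 1 := by omega
    have h11 : W + 1 = (p + 2) * (Y + 2) := hW.symm
    nlinarith [sq_nonneg W, mul_pos (show 0 < p + 1 by omega) (show 0 < Y + 2 by omega)]

end Cfsg.Agent.H700.FpfPsu
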