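import Cfsg.Agent.H700.FpfPsu.Act
import Cfsg.Agent.ClassicalGeometry.PSUAutSylow

/-!
# Elements fixing an isotropic vector

* `not_may_fix` : an element of order `r` of `SU` fixing a nonzero isotropic vector;
* `not_may_blk` : primes dividing `|SU_{n-2}(q)|`.
-/

set_option autoImplicit false
set_option linter.unusedSectionVars false

namespace Cfsg.Agent.H700.FpfPsu

open Cfsg Cfsg.Agent.H948.UBase Cfsg.Agent.H948.UProd Cfsg.Agent.H948.UTorus Cfsg.Agent.H948.UMain
  Cfsg.Agent.LieClassical Cfsg.Agent.LieClassical.HermBasic Cfsg.Agent.LieClassical.HermSiegel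
open Cfsg.Agent.ClassicalGeometry.PSUAutBasic (pr siegG transvG isPGroup_siegG transvG_le_siegG eq_of_pr_eq)
open Cfsg.Agent.ClassicalGeometry.PSUAutSylow (mem_transvG_of_commute)
open Cfsg.Agent.H80.Fpf

variable {F : Type*} [Field F] [Fintype F] {q n : ℕ}

theorem conj_mem_siegG (hF : Fintype.card F = q ^ 2) {z : SU n F q} {u : Fin n → F} (hu : hermForm n F q u u = 0)
    (hzu : act z u = u) {s : SU n F q} (hs : s ∈ siegG hF u hu) : z * s * z⁻¹ ∈ siegG hF u hu := by
  obtain ⟨w, μ, h, rfl⟩ := hs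
  rw [conj_siegel]
  have h1 := h.map z
  have h2 : IsSiegel q u (act z w) μ := by rw [hzu] at h1; exact h1
  exact ⟨act z w, μ, h2, siegel_congr hF _ _ hzu rfl rfl⟩

theorem not_may_fix (hF : Fintype.card F = q ^ 2) (hn : 3 ≤ n) [IsSimpleGroup (PSU n F q)] {r l : ℕ} (hr : r.Prime)
    (hr2 : r ≠ 2) [hl : Fact l.Prime] [CharP F l] (hlr : l ≠ r) (hgood : Good l r) {z : SU n F q}
    (hzr : orderOf (pr n F q z) = r) {u : Fin n → F} (hu0 : u ≠ 0) (hu : hermForm n F q u u = 0) (hzu : act z u = u) :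
    ¬ May r (PSU n F q) := by
  intro hM
  have hP := isPGroup_siegG hF l hu
  have hK : IsPGroup l ((siegG hF u hu).map (pr n F q)) := hP.map _
  have h1 := hM.comm hr hr2 hl.out hlr hgood hK hzr (by
    rintro _ ⟨s, hs, rfl⟩
    exact ⟨z * s * z⁻¹, conj_mem_siegG hF hu hzu hs, by simp only [map_mul, map_inv]⟩)
  have h2 : z ∈ transvG hF u hu := by
    apply mem_transvG_of_commute hF hu0 hu hzu
    intro s hs
    obtain ⟨a, ha⟩ := hP ⟨_, conj_mem_siegG hF hu hzu hs⟩
    obtain ⟨b, hb⟩ := hP ⟨s, hs⟩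
    apply eq_of_pr_eq hF hn (p := l) (congrArg Subtype.val ha) (congrArg Subtype.val hb)
    rw [map_mul, map_mul, h1 _ ⟨s, hs, rfl⟩, map_inv, mul_inv_cancel_right]
  obtain ⟨a, ha⟩ := hP ⟨z, transvG_le_siegG hF hu h2⟩
  have ha' : z ^ l ^ a = 1 := congrArg Subtype.val ha
  have h3 : (pr n F q z) ^ l ^ a = 1 := by rw [← map_pow, ha', map_one]
  have h4 := orderOf_dvd_of_pow_eq_one h3
  rw [hzr] at h4
  exact hlr ((Nat.prime_dvd_prime_iff_eq hr hl.out).1 (hr.dvd_of_dvd_pow h4)).symm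

/-- **Blocks.** -/
theorem not_may_blk (hF : Fintype.card F = q ^ 2) (hn : 3 ≤ n) [IsSimpleGroup (PSU n F q)] {r l : ℕ} (hr : r.Prime)
    (hr2 : r ≠ 2) [hl : Fact l.Prime] [CharP F l] (hlr : l ≠ r) (hgood : Good l r)
    (hd : r ∣ Nat.card (SU (n - 2) F q)) : ¬ May r (PSU n F q) := by
  have hq2 := two_le hF
  obtain ⟨C, hC⟩ := exists_space hF (n - 2)
  obtain ⟨S, hS, hdS, hSr, hS1⟩ := exists_iso_of_mem hC (by rw [Module.finrank_fin_fun]) hr hd
  have hherm : IsHerm hF (prodForm (prodForm (oneForm hF) (oneForm hF)) C) :=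
    isHerm_prod (isHerm_prod isHerm_one isHerm_one) hC
  obtain ⟨e, he⟩ := exists_coord hherm (n := n) (by
    rw [Module.finrank_prod, Module.finrank_prod, Module.finrank_self, Module.finrank_fin_fun]; omega)
  obtain ⟨c, hc0, hc⟩ := exists_norm_eq_ne hF (c := -1) (by rw [neg_pow_q hF, one_pow]) (by simp)
  let X : Module.End F ((F × F) × (Fin (n - 2) → F)) := LinearMap.prodMap (1 : Module.End F (F × F)) S
  have hX : Iso (prodForm (prodForm (oneForm hF) (oneForm hF)) C) X := iso_prod Iso.one hS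
  have hXd : LinearMap.det X = 1 := by
    show LinearMap.det (LinearMap.prodMap (1 : Module.End F (F × F)) S) = 1
    rw [det_prod, map_one, one_mul, hdS]
  let X' : isoM (prodForm (prodForm (oneForm hF) (oneForm hF)) C) := ⟨X, hX, hXd⟩
  let v : (F × F) × (Fin (n - 2) → F) := ((1, c), 0)
  have hXv : X v = v := by
    show (LinearMap.prodMap (1 : Module.End F (F × F)) S) ((1, c), 0) = ((1, c), 0)
    rw [LinearMap.prodMap_apply, map_zero]; rfl
  have hv0 : v ≠ 0 := by
    intro h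
    have h1 : (1 : F) = 0 := congrArg (fun t => t.1.1) h
    exact one_ne_zero h1
  have hXs : ¬ IsScal X := not_isScal_of (one_prodMap_ne hS1) hv0 hXv
  have hXr : IsScal (X ^ r) := by
    have h1 : X ^ r = 1 := by
      show (LinearMap.prodMap (1 : Module.End F (F × F)) S) ^ r = 1
      rw [prodMap_pow, hSr, one_pow]; rfl
    rw [h1]; exact isScal_one
  have hord := orderOf_pr_suHom hn e he hr X' hXs hXr
  refine not_may_fix hF hn hr hr2 hlr hgood hord (u := e v) ?_ ?_ ?_
  · intro h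
    exact hv0 (e.injective (by rw [h, map_zero]))
  · rw [he]
    show (1 ^ q * 1 + c ^ q * c) + C 0 0 = 0
    rw [map_zero, one_pow, one_mul, mul_comm, hc]
    ring
  · show act (toSU e he X hX hXd) (e v) = e v
    rw [act_toSU, LinearEquiv.symm_apply_apply, hXv]

end Cfsg.Agent.H700.FpfPsu
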