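import Cfsg.Agent.H700.FpfPsu.Act

/-!
# The primes dividing `q + 1`

`not_may_q1` : odd primes `r` dividing `q + 1`, `n ≥ 3`.
-/

set_option autoImplicit false
set_option linter.unusedSectionVars false

namespace Cfsg.Agent.H700.FpfPsu

open Cfsg Cfsg.Agent.H948.UBase Cfsg.Agent.H948.UProd Cfsg.Agent.H948.UTorus Cfsg.Agent.H948.UMain
  Cfsg.Agent.LieClassical Cfsg.Agent.LieClassical.HermBasic Cfsg.Agent.LieClassical.HermSiegel
open Cfsg.Agent.H80.Fpf

section maps

variable {F : Type*} [Field F] [Fintype F] {q : ℕ} {hF : Fintype.card F = q ^ 2}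

/-- the cyclic permutation -/
def cyc3 (F : Type*) [Field F] : Module.End F ((F × F) × F) where
  toFun x := ((x.2, x.1.1), x.1.2)
  map_add' _ _ := rfl
  map_smul' _ _ := rfl

theorem cyc3_apply (x : (F × F) × F) : cyc3 F x = ((x.2, x.1.1), x.1.2) := rfl

theorem det_cyc3 (F : Type*) [Field F] : LinearMap.det (cyc3 F) = 1 := by
  let S : Module.End F ((F × F) × F) :=
    { toFun := fun x => ((x.1.2, x.1.1), x.2)
      map_add' := fun _ _ => rfl
      map_smul' := fun _ _ => rfl }
  let T : Module.End F ((F × F) × F) :=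
    { toFun := fun x => ((x.1.1, x.2), x.1.2)
      map_add' := fun _ _ => rfl
      map_smul' := fun _ _ => rfl }
  have h1 : S * S = 1 := LinearMap.ext fun _ => rfl
  have h2 : T * T = 1 := LinearMap.ext fun _ => rfl
  have h3 : S * T * S = T * S * T := LinearMap.ext fun _ => rfl
  have h4 : cyc3 F = S * T := LinearMap.ext fun _ => rfl
  have e1 : LinearMap.det S * LinearMap.det S = 1 := by rw [← map_mul, h1, map_one]
  have e2 : LinearMap.det T * LinearMap.det T = 1 := by rw [← map_mul, h2, map_one]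
  have e3 : LinearMap.det S * LinearMap.det T * LinearMap.det S = LinearMap.det T * LinearMap.det S * LinearMap.det T := by
    rw [← map_mul, ← map_mul, h3, map_mul, map_mul]
  have e4 : LinearMap.det S = LinearMap.det T := by
    linear_combination -e3 + LinearMap.det T * e1 - LinearMap.det S * e2
  rw [h4, map_mul, e4, e2]

theorem cyc3_iso : Iso (prodForm (prodForm (oneForm hF) (oneForm hF)) (oneForm hF)) (cyc3 F) := by
  intro x y
  simp only [prodForm_apply, oneForm_apply, cyc3_apply]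
  ring

/-- diagonal map -/
noncomputable def dia (F : Type*) [Field F] (W : Type*) [AddCommGroup W] [Module F W] (a b : F) (T : Module.End F W) :
    Module.End F ((F × F) × W) :=
  ((a • (1 : Module.End F F)).prodMap (b • (1 : Module.End F F))).prodMap T

theorem dia_apply {W : Type*} [AddCommGroup W] [Module F W] (a b : F) (T : Module.End F W) (x : (F × F) × W) :
    dia F W a b T x = ((a * x.1.1, b * x.1.2), T x.2) := rfl

theorem dia_pow {W : Type*} [AddCommGroup W] [Module F W] (a b : F) (T : Module.End F W) (k : ℕ) :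
    dia F W a b T ^ k = dia F W (a ^ k) (b ^ k) (T ^ k) := by
  unfold dia
  rw [prodMap_pow, prodMap_pow, smul_pow, smul_pow, one_pow]

theorem dia_iso {W : Type*} [AddCommGroup W] [Module F W] {C : W →ₛₗ[cj hF] W →ₗ[F] F} {a b : F} {T : Module.End F W}
    (ha : a ^ (q + 1) = 1) (hb : b ^ (q + 1) = 1) (hT : Iso C T) :
    Iso (prodForm (prodForm (oneForm hF) (oneForm hF)) C) (dia F W a b T) := by
  intro x y
  rw [prodForm_apply, prodForm_apply, dia_apply, dia_apply, prodForm_apply, prodForm_apply]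
  simp only [oneForm_apply]
  rw [hT, mul_pow, mul_pow]
  rw [pow_succ] at ha hb
  linear_combination (x.1.1 ^ q * y.1.1) * ha + (x.1.2 ^ q * y.1.2) * hb

theorem det_dia {W : Type*} [AddCommGroup W] [Module F W] [FiniteDimensional F W] (a b : F) (T : Module.End F W) :
    LinearMap.det (dia F W a b T) = a * b * LinearMap.det T := by
  unfold dia
  rw [det_prod, det_prod, LinearMap.det_smul, LinearMap.det_smul, Module.finrank_self, pow_one, pow_one, map_one, mul_one,
    mul_one]

end maps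

/-- **The primes dividing `q + 1`.** -/
theorem not_may_q1 {F : Type*} [Field F] [Fintype F] {q n : ℕ} (hF : Fintype.card F = q ^ 2) (hn : 3 ≤ n)
    {r : ℕ} (hr : r.Prime) (hr2 : r ≠ 2) (hrq : r ∣ q + 1) : ¬ May r (PSU n F q) := by
  have hq2 := two_le hF
  obtain ⟨c₀, hc₀, hc1⟩ := exists_unit_order hF (N := q + 1) (by
    rw [sq_sub_one q (by omega)]; exact dvd_mul_right _ _)
  obtain ⟨ζ, hζ, hζq⟩ : ∃ d : F, orderOf d = r ∧ d ^ (q + 1) = 1 := by
    refine ⟨c₀ ^ ((q + 1) / r), ?_, ?_⟩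
    · rw [orderOf_pow_of_dvd (Nat.div_pos (Nat.le_of_dvd (by omega) hrq) hr.pos).ne'
        (by rw [hc₀]; exact Nat.div_dvd_of_dvd hrq), hc₀,
        Nat.div_div_self hrq (by omega)]
    · rw [← pow_mul, mul_comm, pow_mul, hc1, one_pow]
  have hζr : ζ ^ r = 1 := by rw [← hζ, pow_orderOf_eq_one]
  have hζ1 : ζ ≠ 1 := by
    rintro rfl
    rw [orderOf_one] at hζ
    exact hr.one_lt.ne hζ
  have hζ0 : ζ ≠ 0 := by
    rintro rfl
    rw [zero_pow hr.ne_zero] at hζr
    exact zero_ne_one hζr
  have hζi : ζ⁻¹ ^ (q + 1) = 1 := by rw [inv_pow, hζq, inv_one]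
  have hζir : ζ⁻¹ ^ r = 1 := by rw [inv_pow, hζr, inv_one]
  by_cases h33 : n = 3 ∧ r = 3
  · obtain ⟨rfl, rfl⟩ := h33
    refine not_may_of_two (B := prodForm (prodForm (oneForm hF) (oneForm hF)) (oneForm hF))
      (isHerm_prod (isHerm_prod isHerm_one isHerm_one) isHerm_one)
      (by rw [Module.finrank_prod, Module.finrank_prod, Module.finrank_self]) hn hr hr2
      (S := dia F F ζ ζ⁻¹ 1) (T := cyc3 F) (dia_iso hζq hζi Iso.one) cyc3_iso ?_ (det_cyc3 F) (c := ζ⁻¹) ?_ ?_ ?_ ?_ ?_
    · rw [det_dia, map_one, mul_one, mul_inv_cancel₀ hζ0]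
    · intro x
      rw [dia_apply, cyc3_apply, cyc3_apply, dia_apply]
      have h3 : ζ * ζ * ζ = 1 := by rw [← hζr]; ring
      have h4 : ζ⁻¹ = ζ * ζ := inv_eq_of_mul_eq_one_right (by rw [← h3]; ring)
      apply Prod.ext
      · apply Prod.ext
        · show x.2 = ζ⁻¹ * (ζ * x.2)
          rw [← mul_assoc, inv_mul_cancel₀ hζ0, one_mul]
        · show ζ * x.1.1 = ζ⁻¹ * (ζ⁻¹ * x.1.1)
          rw [h4]
          linear_combination (-ζ * x.1.1) * h3
      · show ζ⁻¹ * x.1.2 = ζ⁻¹ * x.1.2
        rfl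
    · rw [dia_pow, hζr, hζir, one_pow]
      refine ⟨1, fun x => ?_⟩
      rw [dia_apply, one_mul, one_mul, one_smul]; rfl
    · refine ⟨1, fun x => ?_⟩
      rw [one_smul]; rfl
    · intro k c
      refine ⟨((1, 0), 0), fun h => ?_⟩
      rw [dia_pow, cyc3_apply, dia_apply] at h
      have h1 : (1 : F) = c * (ζ⁻¹ ^ k * 0) := congrArg (fun t => t.1.2) h
      rw [mul_zero, mul_zero] at h1
      exact one_ne_zero h1
    · rintro ⟨c, hc⟩
      have h1 := hc ((1, 0), 1)
      rw [dia_apply] at h1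
      have h2 : ζ * 1 = c * 1 := congrArg (fun t => t.1.1) h1
      have h3 : (1 : F) = c * 1 := congrArg Prod.snd h1
      rw [← h3, mul_one] at h2
      exact hζ1 h2
  · obtain ⟨C, hC⟩ := exists_space hF (n - 3)
    set W := F × (Fin (n - 3) → F) with hW
    have hherm : IsHerm hF (prodForm (prodForm (oneForm hF) (oneForm hF)) (prodForm (oneForm hF) C)) :=
      isHerm_prod (isHerm_prod isHerm_one isHerm_one) (isHerm_prod isHerm_one hC)
    have h1q : (1 : F) ^ (q + 1) = 1 := one_pow _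
    have hsm : ∀ (a : F) (k : ℕ), ((a • (1 : Module.End F F)).prodMap (1 : Module.End F (Fin (n - 3) → F))) ^ k =
        ((a ^ k • (1 : Module.End F F)).prodMap (1 : Module.End F (Fin (n - 3) → F))) := by
      intro a k
      rw [prodMap_pow, smul_pow, one_pow, one_pow]
    refine not_may_of_two hherm
      (by
        rw [Module.finrank_prod, Module.finrank_prod, Module.finrank_prod, Module.finrank_self, Module.finrank_fin_fun]
        omega) hn hr hr2
      (S := dia F W ζ ζ⁻¹ 1)
      (T := dia F W 1 ζ ((ζ⁻¹ • (1 : Module.End F F)).prodMap (1 : Module.End F (Fin (n - 3) → F))))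
      (dia_iso hζq hζi Iso.one) (dia_iso h1q hζq (iso_prod (iso_smul hζi) Iso.one)) ?_ ?_ (c := 1) ?_ ?_ ?_ ?_ ?_
    · rw [det_dia, map_one, mul_one, mul_inv_cancel₀ hζ0]
    · rw [det_dia, det_prod, LinearMap.det_smul, Module.finrank_self, map_one, map_one, pow_one, mul_one, mul_one, one_mul,
        mul_inv_cancel₀ hζ0]
    · intro x
      rw [one_smul, dia_apply, dia_apply, dia_apply, dia_apply]
      apply Prod.ext
      · apply Prod.ext
        · show 1 * (ζ * x.1.1) = ζ * (1 * x.1.1)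
          ring
        · show ζ * (ζ⁻¹ * x.1.2) = ζ⁻¹ * (ζ * x.1.2)
          ring
      · rfl
    · rw [dia_pow, hζr, hζir, one_pow]
      refine ⟨1, fun x => ?_⟩
      rw [dia_apply, one_mul, one_mul, one_smul]; rfl
    · rw [dia_pow, hζr, one_pow, hsm, hζir]
      refine ⟨1, fun x => ?_⟩
      rw [dia_apply, one_mul, one_mul, one_smul, one_smul]; rfl
    · intro k c
      by_contra hcon
      push Not at hcon
      have e1 := hcon ((1, 1), (1, fun _ => 1))
      rw [dia_pow, dia_apply, dia_apply, one_pow] at e1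
      have f1 : (1 : F) * 1 = c * (ζ ^ k * 1) := congrArg (fun t => t.1.1) e1
      have f2 : ζ * 1 = c * (ζ⁻¹ ^ k * 1) := congrArg (fun t => t.1.2) e1
      have f3 : ζ⁻¹ * 1 = c * 1 := congrArg (fun t => t.2.1) e1
      rw [mul_one, mul_one] at f3
      rw [← f3] at f1 f2
      have hk : ζ ^ k * ζ⁻¹ ^ k = 1 := by rw [← mul_pow, mul_inv_cancel₀ hζ0, one_pow]
      have hζi' : ζ * ζ⁻¹ = 1 := mul_inv_cancel₀ hζ0
      -- `ζ ^ 3 = 1`
      have g1 : ζ ^ k = ζ := by
        have := congrArg (fun t => ζ * t) f1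
        simp only [mul_one] at this
        rw [← mul_assoc, hζi', one_mul] at this
        exact this.symm
      rw [inv_pow, g1, mul_one, mul_one] at f2
      have g2 : ζ ^ 3 = 1 := by
        have h5 : ζ * ζ * ζ = ζ * ζ * (ζ⁻¹ * ζ⁻¹) := by rw [← f2]
        have h6 : ζ * ζ * (ζ⁻¹ * ζ⁻¹) = (ζ * ζ⁻¹) * (ζ * ζ⁻¹) := by ring
        rw [h6, hζi', one_mul] at h5
        rw [← h5]; ring
      have g3 : r = 3 := by
        have h5 : r ∣ 3 := by rw [← hζ]; exact orderOf_dvd_of_pow_eq_one g2
        rcases (Nat.dvd_prime Nat.prime_three).1 h5 with h6 | h6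
        · exact absurd h6 hr.one_lt.ne'
        · exact h6
      have g4 : n ≠ 3 := fun h => h33 ⟨h, g3⟩
      have f4 : (fun _ => 1 : Fin (n - 3) → F) = c • (fun _ => 1 : Fin (n - 3) → F) := congrArg (fun t => t.2.2) e1
      have f5 := congrFun f4 ⟨0, by omega⟩
      rw [Pi.smul_apply, smul_eq_mul, mul_one] at f5
      rw [← f5] at f3
      exact hζ1 (by rw [← inv_inv ζ, f3, inv_one])
    · rintro ⟨c, hc⟩
      have h1 := hc ((1, 0), (1, 0))
      rw [dia_apply] at h1
      have h2 : ζ * 1 = c * 1 := congrArg (fun t => t.1.1) h1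
      have h3 : (1 : F) = c * 1 := congrArg (fun t => t.2.1) h1
      rw [← h3, mul_one] at h2
      exact hζ1 h2

end Cfsg.Agent.H700.FpfPsu
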