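import Cfsg.Agent.H700.FpfPsu.Par
import Cfsg.Agent.H700.FpfPsu.Noncyc
import Cfsg.Agent.H700.FpfPsu.Blk
import Cfsg.Agent.H700.FpfPsu.Deg
import Cfsg.Agent.H80.Fpf.Reduce
import Cfsg.Agent.H608.PsuAdj
import Cfsg.Agent.S0283

/-!
# The row of `PSU_n(q)` (for S4228)
-/

set_option autoImplicit false
set_option linter.unusedSectionVars false

namespace Cfsg.Agent.H700.FpfPsu

open Cfsg Cfsg.Agent.LieClassical Cfsg.Agent.LieClassical.HermBasic Cfsg.Agent.H948.UProd
open Cfsg.Agent.H80.Fpf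

variable {F : Type} [Field F] [Fintype F] {q n : ℕ}

/-- the order of `-q` modulo a prime divisor -/
theorem ord_of_dvd (hF : Fintype.card F = q ^ 2) {i r : ℕ} (h : r ∣ ph q i) :
    (-(q : ZMod r)) ^ (i + 1) = 1 := by
  have hq2 := two_le hF
  unfold ph at h
  split_ifs at h with hi
  · rw [← ZMod.natCast_eq_zero_iff] at h
    push_cast at h
    rw [hi.add_one.neg_pow]
    linear_combination -h
  · rw [← ZMod.natCast_eq_zero_iff, Nat.cast_sub (Nat.one_le_pow _ _ (by omega))] at h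
    push_cast at h
    rw [(Nat.not_even_iff_odd.1 hi).add_one.neg_pow]
    linear_combination h

/-- odd order excludes Fermat primes -/
theorem not_fermat {r c : ℕ} (hr : r.Prime) (h : orderOf (-(q : ZMod r)) = c) (hc : Odd c) (hc3 : 3 ≤ c) (m : ℕ) :
    r ≠ 2 ^ m + 1 := by
  intro hrm
  have := Fact.mk hr
  have h0 : (-(q : ZMod r)) ≠ 0 := by
    intro h0
    have h1 := pow_orderOf_eq_one (-(q : ZMod r))
    rw [h, h0, zero_pow (by omega)] at h1
    exact zero_ne_one h1
  have h1 : (-(q : ZMod r)) ^ (r - 1) = 1 := ZMod.pow_card_sub_one_eq_one h0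
  have h2 : c ∣ r - 1 := by rw [← h]; exact orderOf_dvd_of_pow_eq_one h1
  have h3 : c ∣ 2 ^ m := by
    have h5 : r - 1 = 2 ^ m := Nat.sub_eq_of_eq_add hrm
    rwa [h5] at h2
  obtain ⟨k, -, hk⟩ := (Nat.dvd_prime_pow Nat.prime_two).1 h3
  rcases Nat.eq_zero_or_pos k with h4 | h4
  · rw [h4, pow_zero] at hk
    omega
  · rw [hk] at hc
    have : Even (2 ^ k) := (Nat.even_pow.2 ⟨even_two, h4.ne'⟩)
    exact (Nat.not_even_iff_odd.2 hc) this

/-- The characteristic. -/
theorem char_dvd (hF : Fintype.card F = q ^ 2) (l : ℕ) [Fact l.Prime] [CharP F l] : l ∣ q := by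
  have h4 : ((q : ℕ) : F) = 0 := by
    have := FiniteField.cast_card_eq_zero F
    rw [hF, Nat.cast_pow] at this
    exact (pow_eq_zero_iff two_ne_zero).1 this
  exact (CharP.cast_eq_zero_iff F l q).1 h4

theorem eq_char (hF : Fintype.card F = q ^ 2) (l : ℕ) [Fact l.Prime] [CharP F l] {r : ℕ} (hr : r.Prime) (h : r ∣ q) :
    r = l := by
  obtain ⟨p, k, hp, hchar, hk, -⟩ := exists_prime_pow hF
  have h1 : p = l := CharP.eq F hchar ‹CharP F l›
  rw [hk, h1] at h
  exact (Nat.prime_dvd_prime_iff_eq hr Fact.out).1 (hr.dvd_of_dvd_pow h)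

/-- The case analysis. -/
theorem not_may_cases (hF : Fintype.card F = q ^ 2) (hn : 3 ≤ n) (h3 : ¬ (n = 3 ∧ q = 2))
    {l : ℕ} [Fact l.Prime] [CharP F l] {r : ℕ} (hr : r.Prime) (hr2 : r ≠ 2) (hlr : r ≠ l)
    (hd : r ∣ Nat.card (PSU n F q))
    (hcase : Good l r ∨ ∃ m, MultDvd (PSU n F q) m ∧ ¬ l ∣ m) :
    ¬ May r (PSU n F q) ∨ ∃ j, Odd j ∧ 3 ≤ j ∧ (n = j ∨ n = j + 1) ∧ orderOf (-(q : ZMod r)) = j := by
  have hsimp : IsSimpleGroup (PSU n F q) := Cfsg.Agent.S0283.result hF n hn h3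
  have hq2 := two_le hF
  have := Fact.mk hr
  rcases prime_dvd_card_PSU hF (by omega) hr hd with h | ⟨i, hi, h⟩
  · exact absurd (eq_char hF l hr h) hlr
  obtain ⟨c, hc⟩ : ∃ c, orderOf (-(q : ZMod r)) = c := ⟨_, rfl⟩
  have h1 := ord_of_dvd hF h
  have hci : c ≤ i + 1 := by
    rw [← hc]
    exact Nat.le_of_dvd (by omega) (orderOf_dvd_of_pow_eq_one h1)
  have hc0 : 0 < c := by
    rw [← hc, orderOf_pos_iff, isOfFinOrder_iff_pow_eq_one]
    exact ⟨i + 1, by omega, h1⟩
  have hcp : (-(q : ZMod r)) ^ c = 1 := by rw [← hc, pow_orderOf_eq_one]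
  have hrq1 : c ≠ 1 → ¬ r ∣ q + 1 := by
    intro hc1 h2
    apply hc1
    rw [← ZMod.natCast_eq_zero_iff] at h2
    push_cast at h2
    have h3 : -(q : ZMod r) = 1 := by linear_combination -h2
    rw [← hc, h3, orderOf_one]
  by_cases hc1 : c = 1
  · left
    apply not_may_q1 hF hn hr hr2
    rw [hc1, pow_one] at hcp
    rw [← ZMod.natCast_eq_zero_iff]
    push_cast
    linear_combination -hcp
  rcases Nat.even_or_odd c with hce | hco
  · left
    obtain ⟨k, hk⟩ := hce
    refine not_may_par hF hn (k := k) (by omega) (by omega) hr hr2 (l := l) ?_ (hrq1 hc1) hcase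
    have h2 : Even c := ⟨k, hk⟩
    rw [h2.neg_pow] at hcp
    rw [← ZMod.natCast_eq_zero_iff, Nat.cast_sub (Nat.one_le_pow _ _ (by omega))]
    push_cast
    have h4 : 2 * k = c := by omega
    rw [h4, hcp, sub_self]
  · have hc3 : 3 ≤ c := by
      obtain ⟨k, hk⟩ := hco
      omega
    by_cases hcn : c ≤ n - 2
    · left
      refine not_may_blk hF hn hr hr2 (l := l) hlr.symm ?_ ?_
      · exact good_of_not_fermat Fact.out hr hr2 (not_fermat hr hc hco hc3)
      · apply dvd_card_SU hF (i := c - 1) (by omega) (by omega)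
        exact Cfsg.Agent.H608.PsuAdj.dvd_ph (by omega) (by omega) hcp
    · right
      exact ⟨c, hco, hc3, by omega, hc⟩

/-- **The row of `PSU_n(q)`.** -/
theorem row_psu {F : Type} [Field F] [Fintype F] (n q : ℕ) (hF : Fintype.card F = q ^ 2) (hn : 3 ≤ n)
    (h3 : ¬ (n = 3 ∧ q = 2)) : Row (Cfsg.PSU n F q) := by
  classical
  obtain ⟨l, k, hl, hchar, hk, hk0⟩ := exists_prime_pow hF
  have := Fact.mk hl
  have hsimp : IsSimpleGroup (PSU n F q) := Cfsg.Agent.S0283.result hF n hn h3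
  have hlq := char_dvd hF l
  by_cases hexc : (n, q) ∉ ({(4, 2), (4, 3), (6, 2)} : Set (ℕ × ℕ))
  · obtain ⟨j, hj, hj3, hjn⟩ : ∃ j, Odd j ∧ 3 ≤ j ∧ (n = j ∨ n = j + 1) := by
      rcases Nat.even_or_odd n with h | h
      · exact ⟨n - 1, Nat.Even.sub_odd (by omega) h odd_one, by obtain ⟨m, rfl⟩ := h; omega, by omega⟩
      · exact ⟨n, h, hn, Or.inl rfl⟩
    let P : ℕ → Prop := fun r => r.Prime ∧ orderOf (-(q : ZMod r)) = j
    have hbound : ∀ r, P r → r ≤ q ^ j + 1 := fun r hr =>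
      Nat.le_of_dvd (by positivity) (mo_ord hr.1 hr.2 hj hj3).1
    refine row_of l (Nat.findGreatest P (q ^ j + 1)) fun r hr hr2 hd hra hrb => ?_
    have hmult : Good l r ∨ ∃ m, MultDvd (PSU n F q) m ∧ ¬ l ∣ m := by
      refine Or.inr ⟨_, multDvd hF hn h3 hexc, fun h => ?_⟩
      have h1 : l ∣ q + 1 := h.trans (Nat.gcd_dvd_right _ _)
      have h2 : l ∣ 1 := (Nat.dvd_add_right hlq).1 h1
      exact hl.one_lt.ne' (Nat.dvd_one.1 h2)
    rcases not_may_cases hF hn h3 hr hr2 hra hd hmult with h | ⟨j', hj', hj3', hjn', h⟩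
    · exact h
    · obtain rfl : j' = j := by
        rcases hj' with ⟨a, ha⟩
        rcases hj with ⟨b, hb⟩
        omega
      have hPr : P r := ⟨hr, h⟩
      have hle := Nat.le_findGreatest (hbound r hPr) hPr
      have hPb : P (Nat.findGreatest P (q ^ j' + 1)) := Nat.findGreatest_spec (hbound r hPr) hPr
      exact not_may_small hF hn h3 hexc hr hPb.1 (lt_of_le_of_ne hle hrb) hj hj3 hjn h hPb.2
  · rw [not_not] at hexc
    rcases hexc with h | h | h
    · -- `(4, 2)`
      rw [Prod.mk.injEq] at h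
      obtain ⟨rfl, rfl⟩ := h
      refine row_of 3 5 fun r hr hr2 hd h3 h5 => ?_
      exfalso
      rcases prime_dvd_card_PSU hF (by omega) hr hd with h | ⟨i, hi, h⟩
      · exact hr2 ((Nat.prime_dvd_prime_iff_eq hr Nat.prime_two).1 h)
      · have hdv : r ∣ 3 * 5 * 3 := by
          interval_cases i <;> exact h.trans (by decide)
        rcases (Nat.Prime.dvd_mul hr).1 hdv with h | h
        · rcases (Nat.Prime.dvd_mul hr).1 h with h | h
          · exact h3 ((Nat.prime_dvd_prime_iff_eq hr Nat.prime_three).1 h)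
          · exact h5 ((Nat.prime_dvd_prime_iff_eq hr Nat.prime_five).1 h)
        · exact h3 ((Nat.prime_dvd_prime_iff_eq hr Nat.prime_three).1 h)
    · -- `(4, 3)`
      rw [Prod.mk.injEq] at h
      obtain ⟨rfl, rfl⟩ := h
      have hl3 : l = 3 := ((Nat.prime_dvd_prime_iff_eq hl Nat.prime_three).1 hlq)
      subst hl3
      refine row_of 3 7 fun r hr hr2 hd h3' h7 => ?_
      rcases prime_dvd_card_PSU hF (by omega) hr hd with h | ⟨i, hi, h⟩
      · exact absurd ((Nat.prime_dvd_prime_iff_eq hr Nat.prime_three).1 h) h3'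
      · have hdv : r ∣ 2 ^ 7 * 7 * 5 := by
          interval_cases i <;> exact h.trans (by decide)
        rcases (Nat.Prime.dvd_mul hr).1 hdv with h | h
        · exfalso
          rcases (Nat.Prime.dvd_mul hr).1 h with h | h
          · exact hr2 ((Nat.prime_dvd_prime_iff_eq hr Nat.prime_two).1 (hr.dvd_of_dvd_pow h))
          · exact h7 ((Nat.prime_dvd_prime_iff_eq hr (by norm_num)).1 h)
        · obtain rfl : r = 5 := (Nat.prime_dvd_prime_iff_eq hr Nat.prime_five).1 h
          exact not_may_par hF hn (k := 2) (by omega) (by omega) hr hr2 (l := 3) (by norm_num) (by norm_num)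
            (Or.inl (good_of_odd Nat.prime_three (by norm_num) hr hr2))
    · -- `(6, 2)`
      rw [Set.mem_singleton_iff, Prod.mk.injEq] at h
      obtain ⟨rfl, rfl⟩ := h
      have hl2 : l = 2 := ((Nat.prime_dvd_prime_iff_eq hl Nat.prime_two).1 hlq)
      subst hl2
      refine row_of 5 11 fun r hr hr2 hd h5 h11 => ?_
      rcases prime_dvd_card_PSU hF (by omega) hr hd with h | ⟨i, hi, h⟩
      · exact absurd ((Nat.prime_dvd_prime_iff_eq hr Nat.prime_two).1 h) hr2
      · have hdv : r ∣ 3 ^ 2 * 7 * (5 * 11) := by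
          interval_cases i <;> exact h.trans (by decide)
        rcases (Nat.Prime.dvd_mul hr).1 hdv with h | h
        · rcases (Nat.Prime.dvd_mul hr).1 h with h | h
          · obtain rfl : r = 3 := (Nat.prime_dvd_prime_iff_eq hr Nat.prime_three).1 (hr.dvd_of_dvd_pow h)
            exact not_may_q1 hF hn hr hr2 (by norm_num)
          · obtain rfl : r = 7 := (Nat.prime_dvd_prime_iff_eq hr (by norm_num)).1 h
            exact not_may_par hF hn (k := 3) (by omega) (by omega) hr hr2 (l := 2) (by norm_num) (by norm_num)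
              (Or.inl (good_two_of_dvd Nat.prime_three (by norm_num) (by norm_num)))
        · exfalso
          rcases (Nat.Prime.dvd_mul hr).1 h with h | h
          · exact h5 ((Nat.prime_dvd_prime_iff_eq hr Nat.prime_five).1 h)
          · exact h11 ((Nat.prime_dvd_prime_iff_eq hr (by norm_num)).1 h)

end Cfsg.Agent.H700.FpfPsu
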