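import Cfsg.Agent.H700.FpfPsu.PsuCent
import Cfsg.Agent.H80.Fpf.Abel

/-!
# Criteria for `PSU_n(q)` in terms of isometries

* `not_may_of_two` : two isometries of order `r` commuting up to a scalar, independent modulo scalars;
* `not_may_of_unip` : an isometry of order `r` acting on an abelian group of unipotent isometries.
-/

set_option autoImplicit false
set_option linter.unusedSectionVars false

namespace Cfsg.Agent.H700.FpfPsu

open Cfsg Cfsg.Agent.H948.UBase Cfsg.Agent.H948.UProd Cfsg.Agent.H948.UTorus Cfsg.Agent.H948.UMain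
  Cfsg.Agent.LieClassical Cfsg.Agent.LieClassical.HermBasic Cfsg.Agent.LieClassical.HermSiegel
open Cfsg.Agent.ClassicalGeometry.PSUAutBasic (pr pr_eq_one_iff pr_surjective pr_eq_iff exists_scalar_of_mem_center
  mem_center_of_act exists_center_mul)
open Cfsg.Agent.H80.Fpf

variable {F : Type*} [Field F] [Fintype F] {q n : ℕ} {hF : Fintype.card F = q ^ 2} {V : Type*} [AddCommGroup V] [Module F V]
  {B : V →ₛₗ[cj hF] V →ₗ[F] F}

/-- the elements of `PSU` of two isometries which are equal differ by a scalar -/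
theorem exists_scal_of_pr_eq (hn : 3 ≤ n) (e : V ≃ₗ[F] (Fin n → F)) (he : ∀ x y, hermForm n F q (e x) (e y) = B y x)
    {S T : isoM B} (h : pr n F q (suHom e he S) = pr n F q (suHom e he T)) :
    ∃ c : F, ∀ x, (T : Module.End F V) x = c • (S : Module.End F V) x := by
  obtain ⟨z, hz, hz2⟩ := exists_center_mul h
  obtain ⟨c, -, -, hc⟩ := exists_scalar_of_mem_center hF hn hz
  refine ⟨c, fun x => ?_⟩
  have h1 : act (suHom e he T) (e x) = act (suHom e he S) (act z (e x)) := by rw [hz2, act_mul]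
  rw [hc] at h1
  change act (toSU e he T.1 T.2.1 T.2.2) (e x) = act (toSU e he S.1 S.2.1 S.2.2) (c • e x) at h1
  rw [act_toSU, act_toSU, LinearEquiv.symm_apply_apply, ← map_smul e c x, LinearEquiv.symm_apply_apply] at h1
  have h2 := e.injective h1
  rw [h2, map_smul]

/-- isometries which differ by a scalar have the same image in `PSU` -/
theorem pr_eq_of_scal (e : V ≃ₗ[F] (Fin n → F)) (he : ∀ x y, hermForm n F q (e x) (e y) = B y x)
    {S T : isoM B} {c : F} (h : ∀ x, (T : Module.End F V) x = c • (S : Module.End F V) x) :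
    pr n F q (suHom e he S) = pr n F q (suHom e he T) := by
  rw [pr_eq_iff]
  apply mem_center_of_act (c := c)
  intro v
  have h1 : act (suHom e he T) v = act (suHom e he S) (c • v) := by
    change act (toSU e he T.1 T.2.1 T.2.2) v = act (toSU e he S.1 S.2.1 S.2.2) (c • v)
    rw [act_toSU, act_toSU, h, map_smul, map_smul, map_smul, map_smul]
  rw [act_mul, h1, ← act_mul, inv_mul_cancel, act_one]

theorem orderOf_pr_suHom (hn : 3 ≤ n) (e : V ≃ₗ[F] (Fin n → F)) (he : ∀ x y, hermForm n F q (e x) (e y) = B y x)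
    {r : ℕ} (hr : r.Prime) (S : isoM B) (hS : ¬ IsScal (S : Module.End F V)) (hSr : IsScal ((S : Module.End F V) ^ r)) :
    orderOf (pr n F q (suHom e he S)) = r := by
  have := Fact.mk hr
  apply orderOf_eq_prime
  · rw [← map_pow, ← map_pow, pr_suHom_eq_one_iff hn]
    exact hSr
  · rw [Ne, pr_suHom_eq_one_iff hn]
    exact hS

/-- **Noncyclic.** -/
theorem not_may_of_two [FiniteDimensional F V] (hB : IsHerm hF B) (hV : Module.finrank F V = n) (hn : 3 ≤ n)
    {r : ℕ} (hr : r.Prime) (hr2 : r ≠ 2) {S T : Module.End F V} (hS : Iso B S) (hT : Iso B T)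
    (hdS : LinearMap.det S = 1) (hdT : LinearMap.det T = 1) {c : F} (hST : ∀ x, T (S x) = c • S (T x))
    (hSr : IsScal (S ^ r)) (hTr : IsScal (T ^ r)) (hTS : ∀ (k : ℕ) (c : F), ∃ x, T x ≠ c • (S ^ k) x)
    (hSs : ¬ IsScal S) : ¬ May r (PSU n F q) := by
  obtain ⟨e, he⟩ := exists_coord hB hV
  let S' : isoM B := ⟨S, hS, hdS⟩
  let T' : isoM B := ⟨T, hT, hdT⟩
  have hTs : ¬ IsScal T := by
    rintro ⟨d, hd⟩
    obtain ⟨x, hx⟩ := hTS 0 d
    apply hx
    rw [hd, pow_zero, Module.End.one_apply]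
  refine not_may_of_comm hr hr2 (a := pr n F q (suHom e he S')) (b := pr n F q (suHom e he T')) ?_
    (orderOf_pr_suHom hn e he hr S' hSs hSr) (orderOf_pr_suHom hn e he hr T' hTs hTr) ?_
  · rw [← map_mul, ← map_mul, ← map_mul, ← map_mul]
    exact pr_eq_of_scal e he (c := c) hST
  · intro h
    rw [← mem_powers_iff_mem_zpowers] at h
    obtain ⟨k, hk⟩ := h
    have hk' : pr n F q (suHom e he (S' ^ k)) = pr n F q (suHom e he T') := by
      rw [map_pow, map_pow]; exact hk
    obtain ⟨d, hd⟩ := exists_scal_of_pr_eq hn e he hk'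
    obtain ⟨x, hx⟩ := hTS k d
    exact hx (hd x)

/-- an endomorphism of order a power of the characteristic has determinant 1 -/
theorem det_eq_one_of_pow [FiniteDimensional F V] {l : ℕ} [Fact l.Prime] [CharP F l] {U : Module.End F V} {k : ℕ}
    (h : U ^ l ^ k = 1) : LinearMap.det U = 1 := by
  have h1 : LinearMap.det U ^ l ^ k = 1 := by rw [← map_pow, h, map_one]
  have h2 : (LinearMap.det U - 1) ^ l ^ k = 0 := by rw [sub_pow_char_pow, h1, one_pow, sub_self]
  exact sub_eq_zero.1 (pow_eq_zero_iff (pow_ne_zero _ (Fact.out : l.Prime).ne_zero) |>.1 h2)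

/-- **Action on an abelian group of unipotent isometries.** -/
theorem not_may_of_unip [FiniteDimensional F V] (hB : IsHerm hF B) (hV : Module.finrank F V = n) (hn : 3 ≤ n)
    [IsSimpleGroup (PSU n F q)] {r l : ℕ} (hr : r.Prime) (hr2 : r ≠ 2) [hl : Fact l.Prime] [CharP F l] (hlr : l ≠ r)
    (hcase : Good l r ∨ ∃ m, MultDvd (PSU n F q) m ∧ ¬ l ∣ m)
    {X : Module.End F V} (hX : Iso B X) (hdX : LinearMap.det X = 1) (hXr : IsScal (X ^ r)) (hXs : ¬ IsScal X)
    {A : Type*} [AddCommGroup A] (hA : ∀ a : A, l • a = 0) (U : A → Module.End F V) (hU : ∀ a, Iso B (U a))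
    (hU0 : U 0 = 1) (hUadd : ∀ a b, U (a + b) = U a * U b) (φ : A → A) (hφ : ∀ a, X * U a = U (φ a) * X)
    (a : A) (hne : ¬ IsScal (U (φ a - a))) : ¬ May r (PSU n F q) := by
  obtain ⟨e, he⟩ := exists_coord hB hV
  have hUl : ∀ a, (U a) ^ l = 1 := by
    intro a
    have h1 : ∀ k : ℕ, (U a) ^ k = U (k • a) := by
      intro k
      induction k with
      | zero => rw [pow_zero, zero_smul, hU0]
      | succ k ih => rw [pow_succ, ih, succ_nsmul, hUadd]
    rw [h1, hA, hU0]
  have hUd : ∀ a, LinearMap.det (U a) = 1 := fun a => det_eq_one_of_pow (l := l) (k := 1) (by rw [pow_one]; exact hUl a)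
  let g : Multiplicative A →* isoM B :=
    { toFun := fun a => ⟨U a.toAdd, hU _, hUd _⟩
      map_one' := Subtype.ext hU0
      map_mul' := fun a b => Subtype.ext (hUadd _ _) }
  let f : Multiplicative A →* PSU n F q := (pr n F q).comp ((suHom e he).comp g)
  let K : Subgroup (PSU n F q) := f.range
  let X' : isoM B := ⟨X, hX, hdX⟩
  let x : PSU n F q := pr n F q (suHom e he X')
  have hx : orderOf x = r := orderOf_pr_suHom hn e he hr X' hXs hXr
  have hconj : ∀ b : A, x * f (Multiplicative.ofAdd b) = f (Multiplicative.ofAdd (φ b)) * x := by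
    intro b
    have h1 : X' * g (Multiplicative.ofAdd b) = g (Multiplicative.ofAdd (φ b)) * X' := Subtype.ext (hφ b)
    have h2 := congrArg (fun t => pr n F q (suHom e he t)) h1
    simp only [map_mul] at h2
    exact h2
  have hK : IsPGroup l K := by
    rintro ⟨_, b, rfl⟩
    refine ⟨1, Subtype.ext ?_⟩
    show (f b) ^ l ^ 1 = 1
    rw [pow_one, ← map_pow]
    have : b ^ l = 1 := by
      have h1 := hA b.toAdd
      exact h1
    rw [this, map_one]
  have hKc : ∀ a ∈ K, ∀ b ∈ K, a * b = b * a := by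
    rintro _ ⟨a, rfl⟩ _ ⟨b, rfl⟩
    rw [← map_mul, mul_comm, map_mul]
  have hxK : ∀ k ∈ K, x * k * x⁻¹ ∈ K := by
    rintro _ ⟨b, rfl⟩
    refine ⟨Multiplicative.ofAdd (φ b.toAdd), ?_⟩
    rw [eq_mul_inv_iff_mul_eq]
    exact (hconj b.toAdd).symm
  have hkK : f (Multiplicative.ofAdd a) ∈ K := ⟨_, rfl⟩
  have hxne : x * f (Multiplicative.ofAdd a) ≠ f (Multiplicative.ofAdd a) * x := by
    intro h
    rw [hconj, mul_left_inj] at h
    apply hne
    have h1 : f (Multiplicative.ofAdd (φ a - a)) = 1 := by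
      rw [ofAdd_sub, map_div, h, div_self']
    exact (pr_suHom_eq_one_iff hn e he (g (Multiplicative.ofAdd (φ a - a)))).1 h1
  rcases hcase with hg | ⟨m, hm, hlm⟩
  · exact not_may_of_act hr hr2 hl.out hlr hg hK hx hxK hkK hxne
  · exact not_may_of_act_abelian hr hr2 hl.out hm hlm hK hKc hx hxK hkK hxne

end Cfsg.Agent.H700.FpfPsu
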