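import Cfsg.Agent.H700.FpfPsu.Cent

/-!
# Centralizers in `PSU_n(q)` of elements of prime order `r`, `-q` of odd order `n` or `n - 1` modulo `r`
-/

set_option autoImplicit false
set_option linter.unusedSectionVars false

namespace Cfsg.Agent.H700.FpfPsu

open Polynomial Cfsg Cfsg.Agent.H948.UBase Cfsg.Agent.H948.UProd Cfsg.Agent.H948.UTorus Cfsg.Agent.H948.UMain
  Cfsg.Agent.LieClassical Cfsg.Agent.LieClassical.HermBasic Cfsg.Agent.LieClassical.HermSiegel
open Cfsg.Agent.ClassicalGeometry.PSUAutBasic (pr pr_eq_one_iff pr_surjective pr_eq_iff exists_scalar_of_mem_center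
  mem_center_of_act)

section en

variable {F : Type*} [Field F] [Fintype F] {q n : ℕ} {hF : Fintype.card F = q ^ 2} {V : Type*} [AddCommGroup V] [Module F V]
  {B : V →ₛₗ[cj hF] V →ₗ[F] F}

/-- the endomorphism given by an element of `SU` -/
noncomputable def en (e : V ≃ₗ[F] (Fin n → F)) (y : SU n F q) : Module.End F V :=
  e.symm.toLinearMap ∘ₗ (Matrix.toLin' (mat y)) ∘ₗ e.toLinearMap

theorem en_apply (e : V ≃ₗ[F] (Fin n → F)) (y : SU n F q) (v : V) : en e y v = e.symm (act y (e v)) := rfl

theorem en_mul (e : V ≃ₗ[F] (Fin n → F)) (y z : SU n F q) : en e (y * z) = en e y * en e z := by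
  refine LinearMap.ext fun v => ?_
  rw [Module.End.mul_apply, en_apply, en_apply, en_apply, act_mul, LinearEquiv.apply_symm_apply]

theorem en_one (e : V ≃ₗ[F] (Fin n → F)) : en e (1 : SU n F q) = 1 := by
  refine LinearMap.ext fun v => ?_
  rw [en_apply, act_one, LinearEquiv.symm_apply_apply]; rfl

theorem en_pow (e : V ≃ₗ[F] (Fin n → F)) (y : SU n F q) (k : ℕ) : en e (y ^ k) = en e y ^ k := by
  induction k with
  | zero => rw [pow_zero, pow_zero, en_one]
  | succ k ih => rw [pow_succ, pow_succ, en_mul, ih]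

theorem en_inj (e : V ≃ₗ[F] (Fin n → F)) {y z : SU n F q} (h : en e y = en e z) : y = z := by
  apply ext_act
  intro v
  have h1 := LinearMap.congr_fun h (e.symm v)
  rw [en_apply, en_apply, LinearEquiv.apply_symm_apply] at h1
  exact e.symm.injective h1

theorem en_iso (e : V ≃ₗ[F] (Fin n → F)) (he : ∀ x y, hermForm n F q (e x) (e y) = B y x) (y : SU n F q) :
    Iso B (en e y) := by
  intro u v
  rw [← he, ← he, en_apply, en_apply, LinearEquiv.apply_symm_apply, LinearEquiv.apply_symm_apply]
  exact (SUBasic.mem_SU_iff _).1 y.2 _ _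

theorem en_det (e : V ≃ₗ[F] (Fin n → F)) (y : SU n F q) : LinearMap.det (en e y) = 1 := by
  have h := LinearMap.det_conj (Matrix.toLin' (mat y)) e.symm
  rw [LinearMap.det_toLin', det_mat] at h
  exact h

theorem form_smul (c : F) (u v : V) : B (c • u) (c • v) = c * c ^ q * B u v := by
  have h1 : B (c • u) = (cj hF) c • B u := LinearMap.map_smulₛₗ B c u
  rw [h1, LinearMap.smul_apply, map_smul, smul_eq_mul, smul_eq_mul, cj_apply]
  ring

/-- commuting modulo the centre -/
theorem comm_lift (hn : 3 ≤ n) (hF : Fintype.card F = q ^ 2) {r : ℕ} (hr : r.Prime) (hrq : ¬ r ∣ q + 1) {x y : SU n F q}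
    (hx : x ^ r = 1) (h : pr n F q y * pr n F q x = pr n F q x * pr n F q y) : y * x = x * y := by
  rw [← map_mul, ← map_mul] at h
  obtain ⟨z, hz, hzx⟩ := Cfsg.Agent.ClassicalGeometry.PSUAutBasic.exists_center_mul h
  -- `x y = y x z`
  have hzc : ∀ g : SU n F q, g * z = z * g := Subgroup.mem_center_iff.1 hz
  have h1 : y⁻¹ * x * y = x * z := by
    rw [mul_assoc, hzx]
    group
  have h2 : (y⁻¹ * x * y) ^ r = 1 := by
    have : y⁻¹ * x * y = y⁻¹ * x * (y⁻¹)⁻¹ := by rw [inv_inv]
    rw [this, conj_pow, hx, mul_one, mul_inv_cancel]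
  rw [h1, (show Commute x z from hzc x).mul_pow, hx, one_mul] at h2
  have h3 : z ^ Nat.card (Subgroup.center (SU n F q)) = 1 := by
    have h4 : (⟨z, hz⟩ : Subgroup.center (SU n F q)) ^ Nat.card (Subgroup.center (SU n F q)) = 1 := pow_card_eq_one'
    exact congrArg Subtype.val h4
  rw [Cfsg.Agent.S0279.result hF n hn] at h3
  have h5 : orderOf z ∣ Nat.gcd r (Nat.gcd n (q + 1)) :=
    Nat.dvd_gcd (orderOf_dvd_of_pow_eq_one h2) (orderOf_dvd_of_pow_eq_one h3)
  have h6 : Nat.gcd r (Nat.gcd n (q + 1)) = 1 :=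
    (Nat.Prime.coprime_iff_not_dvd hr).2 fun hd => hrq (hd.trans (Nat.gcd_dvd_right _ _))
  rw [h6, Nat.dvd_one, orderOf_eq_one_iff] at h5
  rw [hzx, h5, mul_one]

theorem orderOf_pr (hn : 3 ≤ n) (hF : Fintype.card F = q ^ 2) {r : ℕ} (hr : r.Prime) (hrq : ¬ r ∣ q + 1) {x : SU n F q}
    (hx : orderOf x = r) : orderOf (pr n F q x) = r := by
  have := Fact.mk hr
  apply orderOf_eq_prime
  · rw [← map_pow, ← hx, pow_orderOf_eq_one, map_one]
  · intro h
    rw [pr_eq_one_iff] at h
    have h3 : x ^ Nat.card (Subgroup.center (SU n F q)) = 1 := by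
      have h4 : (⟨x, h⟩ : Subgroup.center (SU n F q)) ^ Nat.card (Subgroup.center (SU n F q)) = 1 := pow_card_eq_one'
      exact congrArg Subtype.val h4
    rw [Cfsg.Agent.S0279.result hF n hn] at h3
    have h5 := orderOf_dvd_of_pow_eq_one h3
    rw [hx] at h5
    exact hrq (h5.trans (Nat.gcd_dvd_right _ _))

end en

section cents

variable {F : Type} [Field F] [Fintype F] {q n : ℕ} {hF : Fintype.card F = q ^ 2}

theorem mo_ord {r j : ℕ} (hr : r.Prime) (h : orderOf (-(q : ZMod r)) = j) (hj : Odd j) (hj3 : 3 ≤ j) :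
    r ∣ q ^ j + 1 ∧ ¬ r ∣ q ∧ ¬ r ∣ q + 1 := by
  have := Fact.mk hr
  have h1 : (-(q : ZMod r)) ^ j = 1 := by rw [← h, pow_orderOf_eq_one]
  refine ⟨?_, ?_, ?_⟩
  · rw [hj.neg_pow] at h1
    rw [← ZMod.natCast_eq_zero_iff]
    push_cast
    linear_combination -h1
  · intro h2
    rw [← ZMod.natCast_eq_zero_iff] at h2
    rw [h2, neg_zero, zero_pow (by omega)] at h1
    exact zero_ne_one h1
  · intro h2
    rw [← ZMod.natCast_eq_zero_iff] at h2
    push_cast at h2
    have h3 : -(q : ZMod r) = 1 := by linear_combination -h2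
    rw [h3, orderOf_one] at h
    omega

/-- **`n = j`** -/
theorem cent_n (hn : 3 ≤ n) (hF : Fintype.card F = q ^ 2) {r : ℕ} (hr : r.Prime)
    (h : orderOf (-(q : ZMod r)) = n) (hj : Odd n) :
    ∃ x : PSU n F q, orderOf x = r ∧ Nat.card (Subgroup.centralizer ({x} : Set (PSU n F q))) * (q + 1) ≤ q ^ n + 1 := by
  classical
  obtain ⟨hrj, hrq, hrq1⟩ := mo_ord hr h hj hn
  obtain ⟨t⟩ := exists_tor hF (m := n) (by omega)
  have hph : ph q (n - 1) = q ^ n + 1 := by
    unfold ph
    rw [Nat.sub_add_cancel (by omega), if_pos]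
    exact Nat.Odd.sub_odd hj odd_one
  obtain ⟨z, hz⟩ := exists_order t hr (by rw [hph]; exact hrj)
  have hzr : z ^ r = 1 := by rw [← hz, pow_orderOf_eq_one]
  obtain ⟨e, he⟩ := exists_coord t.herm t.dim
  set T := t.ρ z with hTdef
  have hT : Iso t.B T := t.iso z
  have hTr : T ^ r = 1 := by rw [hTdef, ← map_pow, hzr, map_one]
  have hT1 : T ≠ 1 := by
    intro h1
    rw [hTdef, ← map_one t.ρ] at h1
    rw [t.inj h1, orderOf_one] at hz
    exact hr.one_lt.ne hz
  have hTd : LinearMap.det T = 1 := det_one_of_order t hr hzr hrq1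
  let x : SU n F q := suHom e he ⟨T, hT, hTd⟩
  have hxe : en e x = T := by
    refine LinearMap.ext fun v => ?_
    rw [en_apply]
    show e.symm (act (toSU e he T hT hTd) (e v)) = T v
    rw [act_toSU, LinearEquiv.symm_apply_apply, LinearEquiv.symm_apply_apply]
  have hxr : x ^ r = 1 := by
    apply en_inj e
    rw [en_pow, hxe, hTr, en_one]
  have hxo : orderOf x = r := by
    have := Fact.mk hr
    apply orderOf_eq_prime hxr
    intro h1
    apply hT1
    rw [← hxe, h1, en_one]
  refine ⟨pr n F q x, orderOf_pr hn hF hr hrq1 hxo, ?_⟩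
  -- lifts
  have hlift : ∀ c : Subgroup.centralizer ({pr n F q x} : Set (PSU n F q)), ∃ y : SU n F q, pr n F q y = c ∧ y * x = x * y := by
    intro c
    obtain ⟨y, hy⟩ := pr_surjective (c : PSU n F q)
    refine ⟨y, hy, comm_lift hn hF hr hrq1 hxr ?_⟩
    rw [hy]
    have := Subgroup.mem_centralizer_iff.1 c.2 (pr n F q x) (Set.mem_singleton _)
    exact this.symm
  choose y hy1 hy2 using hlift
  let f : Subgroup.centralizer ({pr n F q x} : Set (PSU n F q)) × {c : F // c * c ^ q = 1} →
      {g : Module.End F t.V // Iso t.B g ∧ Commute T g} := fun p => ⟨p.2.1 • en e (y p.1), by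
    constructor
    · intro u v
      rw [LinearMap.smul_apply, LinearMap.smul_apply, form_smul, en_iso e he (y p.1) u v, p.2.2, one_mul]
    · refine Commute.smul_right ?_ _
      show T * en e (y p.1) = en e (y p.1) * T
      rw [← hxe, ← en_mul, ← en_mul, hy2]⟩
  have hf : Function.Injective f := by
    rintro ⟨a, c⟩ ⟨b, d⟩ hab
    have h1 : c.1 • en e (y a) = d.1 • en e (y b) := congrArg Subtype.val hab
    have hc0 : ∀ c : {c : F // c * c ^ q = 1}, c.1 ≠ 0 := by
      rintro ⟨c, hc⟩ h0
      change c = 0 at h0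
      rw [h0, zero_mul] at hc
      exact zero_ne_one hc
    have h2 : ∀ v, act (y b)⁻¹ (act (y a) v) = (c.1⁻¹ * d.1) • v := by
      intro v
      have h3 := LinearMap.congr_fun h1 (e.symm v)
      rw [LinearMap.smul_apply, LinearMap.smul_apply, en_apply, en_apply, LinearEquiv.apply_symm_apply, ← map_smul, ← map_smul] at h3
      have h4 := e.symm.injective h3
      have h5 : act (y a) v = (c.1⁻¹ * d.1) • act (y b) v := by
        rw [mul_smul, ← h4, smul_smul, inv_mul_cancel₀ (hc0 c), one_smul]
      rw [h5, act_smul, ← act_mul, inv_mul_cancel, act_one]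
    have h6 : a = b := by
      apply Subtype.ext
      rw [← hy1, ← hy1]
      symm
      rw [pr_eq_iff]
      apply mem_center_of_act (c := c.1⁻¹ * d.1)
      intro v
      rw [act_mul]
      exact h2 v
    subst h6
    congr 1
    have h7 : (c.1 - d.1) • en e (y a) = 0 := by rw [sub_smul, h1, sub_self]
    have h8 : c.1 - d.1 = 0 := by
      by_contra hne
      have h9 : en e (y a) = 0 := by
        rcases smul_eq_zero.1 h7 with h | h
        · exact absurd h hne
        · exact h
      have h10 := en_det e (y a)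
      rw [h9, LinearMap.det_zero, t.dim, zero_pow (by omega)] at h10
      exact zero_ne_one h10
    exact Subtype.ext (sub_eq_zero.1 h8)
  have hfin : Finite {g : Module.End F t.V // Iso t.B g ∧ Commute T g} := by
    have : Finite (Module.End F t.V) := by
      have : Finite t.V := Module.finite_of_finite F
      exact Finite.of_injective (fun g => (g : t.V → t.V)) DFunLike.coe_injective
    infer_instance
  have h1 := Nat.card_le_card_of_injective f hf
  rw [Nat.card_prod, card_norm_eq_one hF] at h1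
  exact h1.trans (card_le t.herm hr hrq h hj t.dim hT hTr hT1 hrj)

/-- `T - 1` is bijective -/
theorem exists_sub_one {V : Type*} [AddCommGroup V] [Module F V] [FiniteDimensional F V]
    {r j : ℕ} (hr : r.Prime) (hrq : ¬ r ∣ q) (h : orderOf (-(q : ZMod r)) = j) (hj : Odd j) (hj3 : 3 ≤ j)
    (hF : Fintype.card F = q ^ 2)
    (hV : Module.finrank F V = j) {T : Module.End F V} (hTr : T ^ r = 1) (hT1 : T ≠ 1) :
    ∃ U : Module.End F V, U * (T - 1) = 1 ∧ (T - 1) * U = 1 := by
  obtain ⟨hirr, hdeg⟩ := min_irr hF hr hrq h hj hV hTr hT1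
  have h1 : ¬ minpoly F T ∣ X - 1 := by
    intro h2
    have hX0 : (X - 1 : F[X]) ≠ 0 := by
      have := X_sub_C_ne_zero (1 : F)
      rwa [C_1] at this
    have h3 := natDegree_le_of_dvd h2 hX0
    have h4 : (X - 1 : F[X]).natDegree = 1 := by rw [← C_1]; exact natDegree_X_sub_C _
    omega
  obtain ⟨a, b, hab⟩ := (hirr.coprime_iff_not_dvd).2 h1
  have h2 := congrArg (aeval T) hab
  rw [map_add, map_mul, map_mul, minpoly.aeval, mul_zero, zero_add, map_one, map_sub, aeval_X, map_one] at h2
  refine ⟨aeval T b, h2, ?_⟩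
  have h3 : Commute (aeval T b) (T - 1) := by
    have h4 : Commute (aeval T b) (aeval T (X - 1 : F[X])) := by
      show _ * _ = _ * _
      rw [← map_mul, ← map_mul, mul_comm]
    rw [map_sub, aeval_X, map_one] at h4
    exact h4
  rw [← h3.eq]
  exact h2

/-- **`n = j + 1`** -/
theorem cent_n1 {j : ℕ} (hj3 : 3 ≤ j) (hF : Fintype.card F = q ^ 2) {r : ℕ} (hr : r.Prime)
    (h : orderOf (-(q : ZMod r)) = j) (hj : Odd j) :
    ∃ x : PSU (j + 1) F q, orderOf x = r ∧
      Nat.card (Subgroup.centralizer ({x} : Set (PSU (j + 1) F q))) ≤ q ^ j + 1 := by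
  classical
  obtain ⟨hrj, hrq, hrq1⟩ := mo_ord hr h hj hj3
  obtain ⟨t⟩ := exists_tor hF (m := j) (by omega)
  have hph : ph q (j - 1) = q ^ j + 1 := by
    unfold ph
    rw [Nat.sub_add_cancel (by omega), if_pos]
    exact Nat.Odd.sub_odd hj odd_one
  obtain ⟨z, hz⟩ := exists_order t hr (by rw [hph]; exact hrj)
  have hzr : z ^ r = 1 := by rw [← hz, pow_orderOf_eq_one]
  set T := t.ρ z with hTdef
  have hT : Iso t.B T := t.iso z
  have hTr : T ^ r = 1 := by rw [hTdef, ← map_pow, hzr, map_one]
  have hT1 : T ≠ 1 := by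
    intro h1
    rw [hTdef, ← map_one t.ρ] at h1
    rw [t.inj h1, orderOf_one] at hz
    exact hr.one_lt.ne hz
  have hTd : LinearMap.det T = 1 := det_one_of_order t hr hzr hrq1
  have hherm : IsHerm hF (prodForm t.B (oneForm hF)) := isHerm_prod t.herm isHerm_one
  obtain ⟨e, he⟩ := exists_coord hherm (n := j + 1) (by rw [Module.finrank_prod, t.dim, Module.finrank_self])
  have hT' : Iso (prodForm t.B (oneForm hF)) (T.prodMap 1) := iso_prod hT Iso.one
  have hTd' : LinearMap.det (T.prodMap (1 : Module.End F F)) = 1 := by rw [det_prod, hTd, map_one, mul_one]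
  let x : SU (j + 1) F q := suHom e he ⟨T.prodMap 1, hT', hTd'⟩
  have hxe : en e x = T.prodMap 1 := by
    refine LinearMap.ext fun v => ?_
    rw [en_apply]
    show e.symm (act (toSU e he (T.prodMap 1) hT' hTd') (e v)) = _
    rw [act_toSU, LinearEquiv.symm_apply_apply, LinearEquiv.symm_apply_apply]
  have hxr : x ^ r = 1 := by
    apply en_inj e
    rw [en_pow, hxe, prodMap_pow, hTr, one_pow, en_one]
    rfl
  have hxo : orderOf x = r := by
    have := Fact.mk hr
    apply orderOf_eq_prime hxr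
    intro h1
    apply prodMap_one_ne (W := F) hT1
    rw [← hxe, h1, en_one]
  refine ⟨pr (j + 1) F q x, orderOf_pr (by omega) hF hr hrq1 hxo, ?_⟩
  -- lifts
  have hlift : ∀ c : Subgroup.centralizer ({pr (j + 1) F q x} : Set (PSU (j + 1) F q)),
      ∃ y : SU (j + 1) F q, pr (j + 1) F q y = c ∧ y * x = x * y := by
    intro c
    obtain ⟨y, hy⟩ := pr_surjective (c : PSU (j + 1) F q)
    refine ⟨y, hy, comm_lift (by omega) hF hr hrq1 hxr ?_⟩
    rw [hy]
    have := Subgroup.mem_centralizer_iff.1 c.2 (pr (j + 1) F q x) (Set.mem_singleton _)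
    exact this.symm
  choose y hy1 hy2 using hlift
  obtain ⟨U, hU1, hU2⟩ := exists_sub_one hr hrq h hj hj3 hF t.dim hTr hT1
  -- structure of the commuting isometries
  have hcom : ∀ c v, en e (y c) ((T.prodMap 1) v) = (T.prodMap 1) (en e (y c) v) := by
    intro c v
    have h1 : en e (y c) * en e x = en e x * en e (y c) := by rw [← en_mul, ← en_mul, hy2]
    rw [hxe] at h1
    exact LinearMap.congr_fun h1 v
  have h01 : ∀ c (v : t.V), (en e (y c) (v, 0)).2 = 0 := by
    intro c v
    have h1 : v = T (U v) - U v := (LinearMap.congr_fun hU2 v).symm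
    have h2 : ((v, 0) : t.V × F) = (T.prodMap (1 : Module.End F F)) (U v, 0) - (U v, 0) := by
      rw [LinearMap.prodMap_apply]
      apply Prod.ext
      · exact h1
      · simp
    rw [h2, map_sub, hcom]
    simp
  have h10 : ∀ c (b : F), (en e (y c) (0, b)).1 = 0 := by
    intro c b
    have h2 : (T.prodMap (1 : Module.End F F)) ((0, b) : t.V × F) = (0, b) := by
      rw [LinearMap.prodMap_apply]
      apply Prod.ext
      · simp
      · rfl
    have h3 := hcom c (0, b)
    rw [h2] at h3
    have h4 : (en e (y c) (0, b)).1 = T (en e (y c) (0, b)).1 := congrArg Prod.fst h3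
    have h5 : U ((T - 1) (en e (y c) (0, b)).1) = (en e (y c) (0, b)).1 := LinearMap.congr_fun hU1 _
    rw [← h5, LinearMap.sub_apply, ← h4, Module.End.one_apply, sub_self, map_zero]
  let g₁ : Subgroup.centralizer ({pr (j + 1) F q x} : Set (PSU (j + 1) F q)) → Module.End F t.V := fun c =>
    (LinearMap.fst F t.V F) ∘ₗ (en e (y c)) ∘ₗ (LinearMap.inl F t.V F)
  have hg₁ : ∀ c v, en e (y c) (v, 0) = (g₁ c v, 0) := fun c v => Prod.ext rfl (h01 c v)
  let b₁ : Subgroup.centralizer ({pr (j + 1) F q x} : Set (PSU (j + 1) F q)) → Module.End F F := fun c =>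
    (LinearMap.snd F t.V F) ∘ₗ (en e (y c)) ∘ₗ (LinearMap.inr F t.V F)
  have hb₁ : ∀ c v, en e (y c) (0, v) = (0, b₁ c v) := fun c v => Prod.ext (h10 c v) rfl
  have hdec : ∀ c, en e (y c) = (g₁ c).prodMap (b₁ c) := by
    intro c
    refine LinearMap.ext fun v => ?_
    have h2 : v = (v.1, 0) + (0, v.2) := by simp
    conv_lhs => rw [h2]
    rw [map_add, hg₁, hb₁, LinearMap.prodMap_apply]
    simp
  let f : Subgroup.centralizer ({pr (j + 1) F q x} : Set (PSU (j + 1) F q)) →
      {g : Module.End F t.V // Iso t.B g ∧ Commute T g} := fun c => ⟨g₁ c, by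
    constructor
    · intro u v
      have h1 := en_iso e he (y c) (u, 0) (v, 0)
      rw [hg₁, hg₁, prodForm_apply, prodForm_apply] at h1
      simpa using h1
    · refine LinearMap.ext fun v => ?_
      have h1 := hcom c (v, 0)
      rw [LinearMap.prodMap_apply, map_zero, hg₁, hg₁] at h1
      exact (congrArg Prod.fst h1).symm⟩
  have hdet1 : ∀ b : Module.End F F, ∃ a : F, b = a • 1 ∧ LinearMap.det b = a := by
    intro b
    refine ⟨b 1, ?_, ?_⟩
    · refine LinearMap.ext fun v => ?_
      rw [LinearMap.smul_apply, Module.End.one_apply, smul_eq_mul]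
      have : v = v • (1 : F) := by rw [smul_eq_mul, mul_one]
      conv_lhs => rw [this]
      rw [map_smul, smul_eq_mul, mul_comm]
    · have h1 : b = (b 1) • (1 : Module.End F F) := by
        refine LinearMap.ext fun v => ?_
        rw [LinearMap.smul_apply, Module.End.one_apply, smul_eq_mul]
        have : v = v • (1 : F) := by rw [smul_eq_mul, mul_one]
        conv_lhs => rw [this]
        rw [map_smul, smul_eq_mul, mul_comm]
      have h2 : LinearMap.det (1 : Module.End F F) = 1 := map_one _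
      conv_lhs => rw [h1]
      rw [LinearMap.det_smul, h2, Module.finrank_self, pow_one, mul_one]
  have hf : Function.Injective f := by
    intro a b hab
    have h1 : g₁ a = g₁ b := congrArg Subtype.val hab
    have h2 : en e (y a) = en e (y b) := by
      rw [hdec, hdec, h1]
      congr 1
      obtain ⟨c, hc, hc2⟩ := hdet1 (b₁ a)
      obtain ⟨d, hd, hd2⟩ := hdet1 (b₁ b)
      have e1 := en_det e (y a)
      have e2 := en_det e (y b)
      rw [hdec, det_prod, h1, hc2] at e1
      rw [hdec, det_prod, hd2] at e2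
      have h0 : LinearMap.det (g₁ b) ≠ 0 := by
        intro h0
        rw [h0, zero_mul] at e2
        exact zero_ne_one e2
      rw [hc, hd, mul_left_cancel₀ h0 (e1.trans e2.symm)]
    apply Subtype.ext
    rw [← hy1, ← hy1, en_inj e h2]
  have hfin : Finite {g : Module.End F t.V // Iso t.B g ∧ Commute T g} := by
    have : Finite (Module.End F t.V) := by
      have : Finite t.V := Module.finite_of_finite F
      exact Finite.of_injective (fun g => (g : t.V → t.V)) DFunLike.coe_injective
    infer_instance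
  exact (Nat.card_le_card_of_injective f hf).trans (card_le t.herm hr hrq h hj t.dim hT hTr hT1 hrj)

end cents

end Cfsg.Agent.H700.FpfPsu
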